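import Groth.Agent.Lib.NormQuot20.Main
import Groth.Agent.Lib.HopfFlat20.Main
import Mathlib.RingTheory.Flat.FaithfullyFlat.Algebra

/-!
# Quotients by normal subgroups
-/

universe u

open TensorProduct Coalgebra HopfAlgebra

namespace Groth.Agent.NormQuot

variable {k : Type u} [Field k] {A : Type u} [CommRing A] [HopfAlgebra k A]

/-- For a faithfully flat algebra the equaliser of the two coprojections is the base. -/
theorem mem_of_one_tmul_eq {B : Subalgebra k A} [Module.FaithfullyFlat B A] {a : A}
    (h : (1 : A) ⊗ₜ[B] a = a ⊗ₜ[B] (1 : A)) : a ∈ B := by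
  let M : Submodule B A := Submodule.span B {1}
  have h2 : Submodule.Quotient.mk (p := M) a = 0 := by
    refine Module.FaithfullyFlat.tensorProduct_mk_injective (A := B) (B := A) (A ⧸ M) ?_
    have := congrArg (LinearMap.lTensor A M.mkQ) h
    simp only [LinearMap.lTensor_tmul, Submodule.mkQ_apply] at this
    rw [TensorProduct.mk_apply, TensorProduct.mk_apply, this, TensorProduct.tmul_zero,
      (Submodule.Quotient.mk_eq_zero M).2 (Submodule.subset_span rfl), TensorProduct.tmul_zero]
  rw [Submodule.Quotient.mk_eq_zero, Submodule.mem_span_singleton] at h2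
  obtain ⟨b, hb⟩ := h2
  rw [← hb, Subalgebra.smul_def, smul_eq_mul, mul_one]
  exact b.2

variable (I : Ideal A) [I.IsHopfIdeal k]

theorem mem_range_lTensor_iff (x : A) :
    comul (R := k) x - x ⊗ₜ[k] (1 : A) ∈ LinearMap.range (LinearMap.lTensor A (I.restrictScalars k).subtype) ↔
      x ∈ coinv (Bialgebra.Quotient.mkBialgHom (R := k) I) := by
  let q := (Ideal.Quotient.mkₐ k I).toLinearMap
  have hex : Function.Exact (I.restrictScalars k).subtype q := fun y =>
    ⟨fun hy => ⟨⟨y, Ideal.Quotient.eq_zero_iff_mem.1 hy⟩, rfl⟩, by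
      rintro ⟨z, rfl⟩
      exact Ideal.Quotient.eq_zero_iff_mem.2 z.2⟩
  refine (Module.Flat.lTensor_exact A hex _).symm.trans ?_
  rw [map_sub, sub_eq_zero, mem_coinv, LinearMap.lTensor_tmul]
  show _ = x ⊗ₜ[k] Ideal.Quotient.mk I 1 ↔ _
  rw [map_one]
  rfl

variable {I}

theorem isHopfSubalgebra_coinv (hI : SGA3.IsNormalHopfIdeal k A I) :
    HopfFlat.IsSub (coinv (Bialgebra.Quotient.mkBialgHom (R := k) I)) :=
  (isNormal_of_isNormalHopfIdeal I hI).isSub_coinv Ideal.Quotient.mk_surjective

theorem eq_augJ_coinv (hI : SGA3.IsNormalHopfIdeal k A I) :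
    I = HopfFlat.augJ (coinv (Bialgebra.Quotient.mkBialgHom (R := k) I)) :=
  (Ideal.mk_ker).symm.trans ((isNormal_of_isNormalHopfIdeal I hI).ker_eq_augJ Ideal.Quotient.mk_surjective)

/-- The coinvariants of the kernel of a quotient group are its functions. -/
theorem coinv_augJ_eq {B : Subalgebra k A} (hB : HopfFlat.IsSub B) (hI : I = HopfFlat.augJ B) :
    coinv (Bialgebra.Quotient.mkBialgHom (R := k) I) = B := by
  haveI := hB.faithfullyFlat
  subst hI
  refine le_antisymm (fun x hx => ?_) fun b hb => ?_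
  · obtain ⟨e, he⟩ := hB.exists_galois (R := A) (AlgHom.id k A) (fun _ => rfl)
    refine mem_of_one_tmul_eq (e.injective ?_)
    have h1 : x ⊗ₜ[B] (1 : A) = x • ((1 : A) ⊗ₜ[B] (1 : A)) := by
      rw [TensorProduct.smul_tmul', smul_eq_mul, mul_one]
    rw [he, h1, map_smul, ← Algebra.TensorProduct.one_def, map_one, Algebra.TensorProduct.one_def,
      TensorProduct.smul_tmul', smul_eq_mul, mul_one]
    have key : ∀ z : A ⊗[k] A,
        Algebra.TensorProduct.map (AlgHom.id k A) (Ideal.Quotient.mkₐ k (HopfFlat.augJ B)) z =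
          TensorProduct.map (LinearMap.id : A →ₗ[k] A)
            ((Bialgebra.Quotient.mkBialgHom (R := k) (HopfFlat.augJ B)) : A →ₗ[k] A ⧸ HopfFlat.augJ B) z := by
      intro z
      induction z using TensorProduct.induction_on with
      | zero => simp
      | add p q hp hq => simp only [map_add, hp, hq]
      | tmul p q =>
        rw [Algebra.TensorProduct.map_tmul, TensorProduct.map_tmul]
        rfl
    have h := mem_coinv.1 hx
    rw [← key] at h
    exact h
  · rw [mem_coinv]
    exact hB.map_id_mk (AlgHom.id k A) hb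

/-- A normal subgroup of an affine algebraic group is the kernel of a representation. -/
theorem exists_comod_kernel [Algebra.FiniteType k A] (hI : SGA3.IsNormalHopfIdeal k A I) :
    ∃ (V : Type u) (_ : AddCommGroup V) (_ : Module k V) (_ : HopfRep.Comod k A V), Module.Finite k V ∧
      ∀ J : Ideal A, I ≤ J ↔ ∀ v : V,
        LinearMap.lTensor V (Ideal.Quotient.mkₐ k J).toLinearMap (HopfRep.Comod.coact (k := k) (A := A) v) =
          v ⊗ₜ[k] (1 : A ⧸ J) := by
  classical
  let π := Bialgebra.Quotient.mkBialgHom (R := k) I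
  haveI : IsNoetherianRing A := Algebra.FiniteType.isNoetherianRing k A
  have hfg : (Submodule.span A {a : A | a ∈ coinv π ∧ counit (R := k) a = 0}).FG :=
    IsNoetherian.noetherian _
  obtain ⟨s, hs, hspan⟩ := (Submodule.fg_span_iff_fg_span_finset_subset _).1 hfg
  choose N hN hfin hmem using Comodule.exists_finite_subcomod (k := k) (A := A) (V := A)
  let V0 : Submodule k A := (⨆ a : ↥s, N a.1) ⊓ fixedSub π A
  have hV0 : HopfRep.IsSubcomod (k := k) (A := A) V0 :=
    Comodule.isSubcomod_inf (Comodule.isSubcomod_iSup _ fun a => hN a.1)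
      ((isNormal_of_isNormalHopfIdeal I hI).isSubcomod_fixedSub Ideal.Quotient.mk_surjective)
  haveI : Module.Finite k V0 := by
    haveI : ∀ a : ↥s, Module.Finite k (N a.1) := fun a => hfin a.1
    haveI : Module.Finite k ↥(⨆ a : ↥s, N a.1) := Submodule.finite_iSup _
    exact Module.Finite.of_injective (Submodule.inclusion inf_le_left) (Submodule.inclusion_injective _)
  letI := Comodule.subComod (k := k) (A := A) V0 hV0
  refine ⟨V0, inferInstance, inferInstance, inferInstance, inferInstance, fun J => ⟨fun hJ v => ?_, fun h => ?_⟩⟩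
  · refine Module.Flat.rTensor_preserves_injective_linearMap (M := A ⧸ J) V0.subtype V0.injective_subtype ?_
    rw [← LinearMap.comp_apply, LinearMap.rTensor_comp_lTensor, ← LinearMap.lTensor_comp_rTensor,
      LinearMap.comp_apply, show V0.subtype.rTensor A (HopfRep.Comod.coact (k := k) (A := A) v) =
        HopfRep.Comod.coact (k := k) (A := A) (v : A) from Comodule.rTensor_coactRestrict V0 hV0 v,
      LinearMap.rTensor_tmul, Submodule.subtype_apply]
    have h1 := mem_fixedSub.1 v.2.2
    have hfac : (Ideal.Quotient.mkₐ k J).toLinearMap =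
        (Ideal.Quotient.factorₐ k hJ).toLinearMap ∘ₗ (Ideal.Quotient.mkₐ k I).toLinearMap :=
      LinearMap.ext fun y => rfl
    rw [hfac, LinearMap.lTensor_comp_apply]
    refine (congrArg _ h1).trans ?_
    rw [LinearMap.lTensor_tmul, AlgHom.toLinearMap_apply, map_one]
  · rw [eq_augJ_coinv hI, HopfFlat.augJ, Ideal.span, hspan, Submodule.span_le]
    intro b hb
    have hbc := hs hb
    have hbV : b ∈ V0 := ⟨Submodule.mem_iSup_of_mem ⟨b, hb⟩ (hmem b), mem_fixedSub.2 hbc.1⟩
    have h1 := congrArg (fun z => TensorProduct.lid k (A ⧸ J)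
      ((counit (R := k) ∘ₗ V0.subtype).rTensor (A ⧸ J) z)) (h ⟨b, hbV⟩)
    simp only [LinearMap.rTensor_tmul, TensorProduct.lid_tmul, LinearMap.comp_apply, Submodule.subtype_apply,
      hbc.2, zero_smul] at h1
    rw [SetLike.mem_coe, ← Ideal.Quotient.eq_zero_iff_mem, ← h1]
    have e : ∀ z : V0 ⊗[k] A, TensorProduct.lid k (A ⧸ J) ((counit (R := k) ∘ₗ V0.subtype).rTensor (A ⧸ J)
        ((Ideal.Quotient.mkₐ k J).toLinearMap.lTensor V0 z)) =
        Ideal.Quotient.mkₐ k J (TensorProduct.lid k A ((counit (R := k)).rTensor A (V0.subtype.rTensor A z))) := by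
      intro z
      induction z using TensorProduct.induction_on with
      | zero => simp
      | add x y hx hy => simp only [map_add, hx, hy]
      | tmul x y => simp [map_smul]
    rw [e, show V0.subtype.rTensor A (HopfRep.Comod.coact (k := k) (A := A) (⟨b, hbV⟩ : V0)) = comul (R := k) b from
      Comodule.rTensor_coactRestrict V0 hV0 _, rTensor_counit_comul]
    simp

end Groth.Agent.NormQuot
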