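import Groth.Agent.Lib.HopfFlat20.Galois
import Groth.Agent.Lib.CoalgH23.Basic
import Groth.Agent.Lib.CoalgH23.Dual
import Groth.Agent.Lib.MultType.Image
import Groth.Agent.Lib.Comodule.Basic
import Groth.Prelude.Def_SGA3
import Mathlib.RingTheory.HopfAlgebra.Convolution

/-!
# Normal closed subgroups and their coinvariants
-/

universe u

open TensorProduct Coalgebra HopfAlgebra WithConv

namespace Groth.Agent.NormQuot

variable {k : Type u} [Field k] {A C : Type u} [CommRing A] [HopfAlgebra k A] [CommRing C] [HopfAlgebra k C]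

variable (π : A →ₐc[k] C)

/-- The generic conjugate `g h g⁻¹` of a point of the subgroup. -/
noncomputable def conj : A →ₐ[k] A ⊗[k] C :=
  let g : WithConv (A →ₐ[k] A ⊗[k] C) := toConv Algebra.TensorProduct.includeLeft
  let h : WithConv (A →ₐ[k] A ⊗[k] C) := toConv (Algebra.TensorProduct.includeRight.comp (π : A →ₐ[k] C))
  (g * h * g⁻¹).ofConv

/-- The subgroup cut out by the kernel of `π` is normal. -/
def IsNormal : Prop := ∀ x, π x = 0 → conj π x = 0

/-- The coinvariants: functions invariant under right translation by the subgroup. -/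
noncomputable def coinv : Subalgebra k A :=
  AlgHom.equalizer ((Algebra.TensorProduct.map (AlgHom.id k A) (π : A →ₐ[k] C)).comp (Bialgebra.comulAlgHom k A))
    (Algebra.TensorProduct.includeLeft : A →ₐ[k] A ⊗[k] C)

variable {π}

theorem mem_coinv {b : A} : b ∈ coinv π ↔
    TensorProduct.map (LinearMap.id : A →ₗ[k] A) (π : A →ₗ[k] C) (comul (R := k) b) = b ⊗ₜ[k] 1 :=
  Iff.rfl

theorem conj3_eq {R : Type u} [CommRing R] [Algebra k R] (a b c : A →ₐ[k] R) :
    Dyn.conv3 k A a b c = (toConv a * toConv b * toConv c).ofConv := by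
  refine AlgHom.ext fun x => ?_
  rw [AlgHom.convMul_apply]
  show Algebra.TensorProduct.lmul' k (Algebra.TensorProduct.map _ c (Algebra.TensorProduct.map
    (Bialgebra.comulAlgHom k A) (AlgHom.id k A) (comul (R := k) x))) = _
  induction comul (R := k) x using TensorProduct.induction_on with
  | zero => simp
  | add p q hp hq => simp only [map_add, hp, hq]
  | tmul p q =>
    simp only [Algebra.TensorProduct.map_tmul, Algebra.TensorProduct.lift_tmul, AlgHom.id_apply,
      ofConv_toConv, AlgHom.convMul_apply, Algebra.TensorProduct.lmul'_apply_tmul, AlgHom.comp_apply,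
      Bialgebra.comulAlgHom_apply]
    congr 1
    induction comul (R := k) p using TensorProduct.induction_on with
    | zero => simp
    | add u v hu hv => simp only [map_add, hu, hv]
    | tmul u v => simp

/-- The inverse of a point with values in an algebra. -/
noncomputable def pinv {R : Type u} [CommRing R] [Algebra k R] (g : WithConv (A →ₐ[k] R)) :
    WithConv (A →ₐ[k] R) :=
  toConv (g.ofConv.comp (antipodeAlgHom k A))

theorem pinv_mul {R : Type u} [CommRing R] [Algebra k R] (g : WithConv (A →ₐ[k] R)) : pinv g * g = 1 := by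
  apply ofConv_injective
  have h := AlgHom.comp_convMul_distrib g.ofConv (toConv (antipodeAlgHom k A)) (toConv (AlgHom.id k A))
  rw [AlgHom.antipode_id_cancel] at h
  simp only [ofConv_toConv, AlgHom.comp_id] at h
  exact h.symm.trans (AlgHom.ext fun c => by simp)

theorem mul_pinv {R : Type u} [CommRing R] [Algebra k R] (g : WithConv (A →ₐ[k] R)) : g * pinv g = 1 := by
  apply ofConv_injective
  have h := AlgHom.comp_convMul_distrib g.ofConv (toConv (AlgHom.id k A)) (toConv (antipodeAlgHom k A))
  have h1 : toConv (AlgHom.id k A) * toConv (antipodeAlgHom k A) = 1 :=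
    mul_eq_one_comm.1 AlgHom.antipode_id_cancel
  rw [h1] at h
  simp only [ofConv_toConv, AlgHom.comp_id] at h
  exact h.symm.trans (AlgHom.ext fun c => by simp)

theorem isNormal_of_isNormalHopfIdeal (I : Ideal A) [I.IsHopfIdeal k] (h : SGA3.IsNormalHopfIdeal k A I) :
    IsNormal (Bialgebra.Quotient.mkBialgHom (R := k) I) := by
  intro x hx
  let π := Bialgebra.Quotient.mkBialgHom (R := k) I
  let g : A →ₐ[k] A ⊗[k] (A ⧸ I) := Algebra.TensorProduct.includeLeft
  let n : A →ₐ[k] A ⊗[k] (A ⧸ I) := Algebra.TensorProduct.includeRight.comp (π : A →ₐ[k] A ⧸ I)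
  have h1 := h (A ⊗[k] (A ⧸ I)) g n (fun a ha => by
    show (1 : A) ⊗ₜ[k] Ideal.Quotient.mk I a = 0
    rw [Ideal.Quotient.eq_zero_iff_mem.2 ha, TensorProduct.tmul_zero]) x (Ideal.Quotient.eq_zero_iff_mem.1 hx)
  rw [conj3_eq] at h1
  exact h1

/-- Conjugates of points of a normal subgroup. -/
theorem IsNormal.apply_eq_zero (hN : IsNormal π) {R : Type u} [CommRing R] [Algebra k R]
    (g : WithConv (A →ₐ[k] R)) (h : C →ₐ[k] R) {x : A} (hx : π x = 0) :
    (g * toConv (h.comp (π : A →ₐ[k] C)) * pinv g).ofConv x = 0 := by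
  let φ : A ⊗[k] C →ₐ[k] R := Algebra.TensorProduct.lift g.ofConv h fun _ _ => Commute.all _ _
  let post : WithConv (A →ₐ[k] A ⊗[k] C) →* WithConv (A →ₐ[k] R) :=
    { toFun := fun y => toConv (φ.comp y.ofConv)
      map_one' := ofConv_injective (AlgHom.ext fun y => by simp [φ])
      map_mul' := fun p q => ofConv_injective (AlgHom.comp_convMul_distrib φ p q) }
  have e1 : post (toConv Algebra.TensorProduct.includeLeft) = g :=
    ofConv_injective (AlgHom.ext fun y => by simp [post, φ])
  have e2 : post (toConv (Algebra.TensorProduct.includeRight.comp (π : A →ₐ[k] C))) =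
      toConv (h.comp (π : A →ₐ[k] C)) :=
    ofConv_injective (AlgHom.ext fun y => by simp [post, φ])
  have hc : post (toConv (conj π)) = g * toConv (h.comp (π : A →ₐ[k] C)) * pinv g := by
    have e3 : toConv (conj π) = toConv Algebra.TensorProduct.includeLeft *
      toConv (Algebra.TensorProduct.includeRight.comp (π : A →ₐ[k] C)) *
        (toConv Algebra.TensorProduct.includeLeft : WithConv (A →ₐ[k] A ⊗[k] C))⁻¹ := rfl
    have e4 : post (toConv Algebra.TensorProduct.includeLeft)⁻¹ = pinv g := by
      refine ofConv_injective (AlgHom.ext fun y => ?_)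
      show φ ((Algebra.TensorProduct.includeLeft : A →ₐ[k] A ⊗[k] C) (antipode k y)) = g.ofConv (antipode k y)
      simp [φ]
    rw [e3, map_mul, map_mul, e4, e1, e2]
  rw [← hc]
  show φ (conj π x) = 0
  rw [hN x hx, map_zero]

/-- A conjugate of a point of a normal subgroup is a point of it. -/
theorem IsNormal.exists_point (hN : IsNormal π) (hπ : Function.Surjective π) {R : Type u} [CommRing R]
    [Algebra k R] (g : WithConv (A →ₐ[k] R)) (h : C →ₐ[k] R) :
    ∃ n : C →ₐ[k] R, g * toConv (h.comp (π : A →ₐ[k] C)) = toConv (n.comp (π : A →ₐ[k] C)) * g := by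
  let c := (g * toConv (h.comp (π : A →ₐ[k] C)) * pinv g).ofConv
  have hc : RingHom.ker (π : A →ₐ[k] C) ≤ RingHom.ker c := fun x hx => hN.apply_eq_zero g h hx
  refine ⟨(Ideal.Quotient.liftₐ _ c fun x hx => hc hx).comp
    (Ideal.quotientKerAlgEquivOfSurjective (f := (π : A →ₐ[k] C)) hπ).symm.toAlgHom, ?_⟩
  have : (((Ideal.Quotient.liftₐ _ c fun x hx => hc hx).comp
      (Ideal.quotientKerAlgEquivOfSurjective (f := (π : A →ₐ[k] C)) hπ).symm.toAlgHom).comp (π : A →ₐ[k] C)) = c := by
    refine AlgHom.ext fun x => ?_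
    have e : (Ideal.quotientKerAlgEquivOfSurjective (f := (π : A →ₐ[k] C)) hπ).symm (π x) =
        Ideal.Quotient.mk _ x := by
      rw [AlgEquiv.symm_apply_eq]
      rfl
    show Ideal.Quotient.liftₐ _ c (fun y hy => hc hy)
      ((Ideal.quotientKerAlgEquivOfSurjective (f := (π : A →ₐ[k] C)) hπ).symm (π x)) = c x
    rw [e]
    exact Ideal.Quotient.liftₐ_apply _ _ _ _
  rw [this]
  show _ = g * toConv (h.comp (π : A →ₐ[k] C)) * pinv g * g
  rw [mul_assoc _ (pinv g), pinv_mul, mul_one]

theorem apply_conv_eq (b : coinv π) {R : Type u} [CommRing R] [Algebra k R] (g : WithConv (A →ₐ[k] R))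
    (h : C →ₐ[k] R) : (g * toConv (h.comp (π : A →ₐ[k] C))).ofConv b = g.ofConv b := by
  let φ := Algebra.TensorProduct.lift g.ofConv h fun _ _ => Commute.all _ _
  have e : ∀ z : A ⊗[k] A, Algebra.TensorProduct.lift g.ofConv (h.comp (π : A →ₐ[k] C))
      (fun _ _ => Commute.all _ _) z =
      φ (TensorProduct.map (LinearMap.id : A →ₗ[k] A) (π : A →ₗ[k] C) z) := by
    intro z
    induction z using TensorProduct.induction_on with
    | zero => simp
    | add p q hp hq => simp only [map_add, hp, hq]
    | tmul p q => simp [φ]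
  rw [AlgHom.convMul_apply]
  refine (e _).trans ?_
  rw [mem_coinv.1 b.2]
  simp [φ]

/-- Right coinvariants of a normal subgroup are left coinvariants. -/
theorem IsNormal.map_comul_coinv (hN : IsNormal π) (hπ : Function.Surjective π) {b : A} (hb : b ∈ coinv π) :
    TensorProduct.map (π : A →ₗ[k] C) (LinearMap.id : A →ₗ[k] A) (comul (R := k) b) = 1 ⊗ₜ[k] b := by
  let g : WithConv (A →ₐ[k] C ⊗[k] A) := toConv Algebra.TensorProduct.includeRight
  let h : C →ₐ[k] C ⊗[k] A := Algebra.TensorProduct.includeLeft
  obtain ⟨n, hn⟩ := hN.exists_point hπ (pinv g) h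
  have h1 : toConv (h.comp (π : A →ₐ[k] C)) * g = g * toConv (n.comp (π : A →ₐ[k] C)) := by
    calc toConv (h.comp (π : A →ₐ[k] C)) * g = g * (pinv g * toConv (h.comp (π : A →ₐ[k] C))) * g := by
          rw [← mul_assoc g, mul_pinv, one_mul]
      _ = g * (toConv (n.comp (π : A →ₐ[k] C)) * pinv g) * g := by rw [hn]
      _ = g * toConv (n.comp (π : A →ₐ[k] C)) := by rw [mul_assoc, mul_assoc, pinv_mul, mul_one]
  have h2 := apply_conv_eq ⟨b, hb⟩ g n
  rw [← h1, AlgHom.convMul_apply] at h2
  refine Eq.trans ?_ h2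
  induction comul (R := k) b using TensorProduct.induction_on with
  | zero => simp
  | add p q hp hq => simp only [map_add, hp, hq]
  | tmul p q => simp [g, h]

section Fixed

variable {V : Type u} [AddCommGroup V] [Module k V] [HopfRep.Comod k A V]

variable (π V) in
/-- The vectors fixed by the subgroup. -/
noncomputable def fixedSub : Submodule k V :=
  LinearMap.ker (((π : A →ₗ[k] C).lTensor V) ∘ₗ HopfRep.Comod.coact (k := k) (A := A) -
    (TensorProduct.mk k V C).flip 1)

theorem mem_fixedSub {v : V} : v ∈ fixedSub π V ↔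
    (π : A →ₗ[k] C).lTensor V (HopfRep.Comod.coact (k := k) (A := A) v) = v ⊗ₜ[k] 1 := by
  simp [fixedSub, sub_eq_zero]

/-- The coefficients of fixed vectors are coinvariants. -/
theorem coact_mem_lTensor {v : V} (hv : v ∈ fixedSub π V) :
    HopfRep.Comod.coact (k := k) (A := A) v ∈ LinearMap.range ((coinv π).val.toLinearMap.lTensor V) := by
  let δ : A →ₗ[k] A ⊗[k] C :=
    (TensorProduct.map (LinearMap.id : A →ₗ[k] A) (π : A →ₗ[k] C)) ∘ₗ comul -
      (Algebra.TensorProduct.includeLeft : A →ₐ[k] A ⊗[k] C).toLinearMap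
  have hex : Function.Exact (coinv π).val.toLinearMap δ := fun x => by
    refine ⟨fun hx => ⟨⟨x, sub_eq_zero.1 hx⟩, rfl⟩, ?_⟩
    rintro ⟨y, rfl⟩
    exact sub_eq_zero.2 y.2
  refine (Module.Flat.lTensor_exact V hex _).1 ?_
  let ρ := HopfRep.Comod.coact (k := k) (A := A) (V := V)
  let f := (π : A →ₗ[k] C).lTensor V
  let g := TensorProduct.map (LinearMap.id : A →ₗ[k] A) (π : A →ₗ[k] C)
  have e : ∀ z : V ⊗[k] A, g.lTensor V (TensorProduct.assoc k V A A (ρ.rTensor A z)) =
      TensorProduct.assoc k V A C (ρ.rTensor C (f z)) := by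
    intro z
    induction z using TensorProduct.induction_on with
    | zero => simp
    | add p q hp hq => simp only [map_add, hp, hq]
    | tmul p q =>
      simp only [LinearMap.rTensor_tmul, f, LinearMap.lTensor_tmul]
      induction ρ p using TensorProduct.induction_on with
      | zero => simp
      | add x y hx hy => simp only [TensorProduct.add_tmul, map_add, hx, hy]
      | tmul x y => simp [g]
  have h1 : (g ∘ₗ comul).lTensor V (ρ v) =
      (Algebra.TensorProduct.includeLeft : A →ₐ[k] A ⊗[k] C).toLinearMap.lTensor V (ρ v) := by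
    have hco : TensorProduct.assoc k V A A (ρ.rTensor A (ρ v)) = (comul (R := k) (A := A)).lTensor V (ρ v) :=
      LinearMap.congr_fun (HopfRep.Comod.coassoc (k := k) (A := A) (V := V)) v
    rw [LinearMap.lTensor_comp_apply, ← hco, e, mem_fixedSub.1 hv, LinearMap.rTensor_tmul]
    change TensorProduct.assoc k V A C (ρ v ⊗ₜ[k] 1) = _
    induction ρ v using TensorProduct.induction_on with
    | zero => simp
    | add x y hx hy => simp only [TensorProduct.add_tmul, map_add, hx, hy]
    | tmul x y => simp
  show δ.lTensor V (ρ v) = 0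
  rw [LinearMap.lTensor_sub, LinearMap.sub_apply, h1, sub_self]

/-- For a normal subgroup the fixed vectors form a subcomodule. -/
theorem IsNormal.isSubcomod_fixedSub (hN : IsNormal π) (hπ : Function.Surjective π) :
    HopfRep.IsSubcomod (k := k) (A := A) (fixedSub π V) := by
  intro v hv
  let ρ := HopfRep.Comod.coact (k := k) (A := A) (V := V)
  let δV : V →ₗ[k] V ⊗[k] C := (π : A →ₗ[k] C).lTensor V ∘ₗ ρ - (TensorProduct.mk k V C).flip 1
  have hex : Function.Exact (fixedSub π V).subtype δV := LinearMap.exact_subtype_ker_map δV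
  refine (Module.Flat.rTensor_exact A hex _).1 ?_
  let f' := TensorProduct.map (π : A →ₗ[k] C) (LinearMap.id : A →ₗ[k] A)
  have e : ∀ z : V ⊗[k] (A ⊗[k] A), ((π : A →ₗ[k] C).lTensor V).rTensor A ((TensorProduct.assoc k V A A).symm z) =
      (TensorProduct.assoc k V C A).symm (f'.lTensor V z) := by
    intro z
    induction z using TensorProduct.induction_on with
    | zero => simp
    | add p q hp hq => simp only [map_add, hp, hq]
    | tmul p q =>
      induction q using TensorProduct.induction_on with
      | zero => simp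
      | add x y hx hy => simp only [TensorProduct.tmul_add, map_add, hx, hy]
      | tmul x y => simp [f']
  have h1 : ((π : A →ₗ[k] C).lTensor V ∘ₗ ρ).rTensor A (ρ v) = ((TensorProduct.mk k V C).flip 1).rTensor A (ρ v) := by
    have hco : ρ.rTensor A (ρ v) = (TensorProduct.assoc k V A A).symm ((comul (R := k) (A := A)).lTensor V (ρ v)) := by
      rw [LinearEquiv.eq_symm_apply]
      exact LinearMap.congr_fun (HopfRep.Comod.coassoc (k := k) (A := A) (V := V)) v
    rw [LinearMap.rTensor_comp_apply, hco, e]
    obtain ⟨w, hw⟩ := coact_mem_lTensor hv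
    have hfix : f'.lTensor V (comul.lTensor V (ρ v)) =
        (Algebra.TensorProduct.includeRight : A →ₐ[k] C ⊗[k] A).toLinearMap.lTensor V (ρ v) := by
      show f'.lTensor V (comul.lTensor V (HopfRep.Comod.coact (k := k) (A := A) v)) = _
      rw [show ρ v = HopfRep.Comod.coact (k := k) (A := A) v from rfl, ← hw, ← LinearMap.lTensor_comp_apply,
        ← LinearMap.lTensor_comp_apply, ← LinearMap.lTensor_comp_apply]
      exact LinearMap.congr_fun (congrArg (LinearMap.lTensor V)
        (LinearMap.ext fun y => hN.map_comul_coinv hπ y.2)) w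
    rw [hfix]
    induction ρ v using TensorProduct.induction_on with
    | zero => simp
    | add x y hx hy => simp only [map_add, hx, hy]
    | tmul x y => simp
  show δV.rTensor A (ρ v) = 0
  rw [LinearMap.rTensor_sub, LinearMap.sub_apply, h1, sub_self]

end Fixed

theorem fixedSub_regular : (fixedSub π A : Submodule k A) = Subalgebra.toSubmodule (coinv π) :=
  SetLike.ext fun _ => mem_fixedSub

theorem IsNormal.isSub_coinv (hN : IsNormal π) (hπ : Function.Surjective π) : HopfFlat.IsSub (coinv π) := by
  constructor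
  · intro b hb
    have hb' : b ∈ fixedSub π A := fixedSub_regular.symm.le hb
    have hsub := hN.isSubcomod_fixedSub hπ (V := A) b hb'
    rw [fixedSub_regular] at hsub
    obtain ⟨w, hw⟩ := hsub
    let δ : A →ₗ[k] A ⊗[k] C :=
      (TensorProduct.map (LinearMap.id : A →ₗ[k] A) (π : A →ₗ[k] C)) ∘ₗ comul -
        (Algebra.TensorProduct.includeLeft : A →ₐ[k] A ⊗[k] C).toLinearMap
    have hex : Function.Exact (coinv π).val.toLinearMap δ := fun x => by
      refine ⟨fun hx => ⟨⟨x, sub_eq_zero.1 hx⟩, rfl⟩, ?_⟩
      rintro ⟨y, rfl⟩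
      exact sub_eq_zero.2 y.2
    obtain ⟨u, hu⟩ := coact_mem_lTensor hb'
    have h0 : δ.lTensor A (comul (R := k) b) = 0 := by
      rw [show comul (R := k) b = HopfRep.Comod.coact (k := k) (A := A) b from rfl, ← hu]
      exact (Module.Flat.lTensor_exact A hex _).2 ⟨u, rfl⟩
    rw [show comul (R := k) b = HopfRep.Comod.coact (k := k) (A := A) b from rfl, ← hw] at h0
    change (δ.lTensor A) ((coinv π).val.toLinearMap.rTensor A w) = 0 at h0
    rw [← LinearMap.comp_apply, LinearMap.lTensor_comp_rTensor, ← LinearMap.rTensor_comp_lTensor,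
      LinearMap.comp_apply] at h0
    have h1 : δ.lTensor (coinv π) w = 0 :=
      Module.Flat.rTensor_preserves_injective_linearMap (M := A ⊗[k] C) (coinv π).val.toLinearMap
        Subtype.val_injective (h0.trans (map_zero _).symm)
    obtain ⟨y, rfl⟩ := (Module.Flat.lTensor_exact (coinv π) hex _).1 h1
    refine ⟨y, ?_⟩
    rw [show comul (R := k) b = HopfRep.Comod.coact (k := k) (A := A) b from rfl, ← hw]
    show _ = (coinv π).val.toLinearMap.rTensor A ((coinv π).val.toLinearMap.lTensor (coinv π) y)
    rw [← LinearMap.comp_apply, LinearMap.rTensor_comp_lTensor]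
  · intro b hb
    rw [mem_coinv, CoalgH23.comul_antipode]
    have hcomm : ∀ z : A ⊗[k] A,
        TensorProduct.map (LinearMap.id : A →ₗ[k] A) (π : A →ₗ[k] C)
          (TensorProduct.map (antipode k) (antipode k) (TensorProduct.comm k A A z)) =
        TensorProduct.map (antipode k) (antipode k) (TensorProduct.comm k C A
          (TensorProduct.map (π : A →ₗ[k] C) (LinearMap.id : A →ₗ[k] A) z)) := by
      intro z
      induction z using TensorProduct.induction_on with
      | zero => simp
      | add x y hx hy => simp only [map_add, hx, hy]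
      | tmul x y => simp [MultTypeLib.bialgHom_map_antipode]
    rw [hcomm, hN.map_comul_coinv hπ hb]
    simp

end Groth.Agent.NormQuot
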