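import Groth.Agent.Lib.NormQuot20.Occ
import Groth.Agent.Lib.OT.BaseChange
import Groth.Agent.Lib.HopfFlat20.Fg
import Groth.Agent.S16476
import Mathlib.RingTheory.HopfAlgebra.Quotient
import Mathlib.LinearAlgebra.TensorProduct.Tower

/-!
# Normal subgroups are kernels
-/

universe u

open TensorProduct Coalgebra HopfAlgebra WithConv

namespace Groth.Agent.NormQuot

variable {k : Type u} [Field k] {A C : Type u} [CommRing A] [HopfAlgebra k A] [CommRing C] [HopfAlgebra k C]
  {π : A →ₐc[k] C}

theorem augJ_coinv_le : HopfFlat.augJ (coinv π) ≤ RingHom.ker (π : A →ₐ[k] C) := by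
  refine Ideal.span_le.2 fun b hb => ?_
  show π b = 0
  have h := congrArg (fun z => TensorProduct.lid k C ((counit (R := k)).rTensor C z)) (mem_coinv.1 hb.1)
  simp only [LinearMap.rTensor_tmul, TensorProduct.lid_tmul, hb.2, zero_smul] at h
  rw [← h]
  have e : ∀ z : A ⊗[k] A, π (TensorProduct.lid k A ((counit (R := k)).rTensor A z)) =
      TensorProduct.lid k C ((counit (R := k)).rTensor C
        (TensorProduct.map (LinearMap.id : A →ₗ[k] A) (π : A →ₗ[k] C) z)) := by
    intro z
    induction z using TensorProduct.induction_on with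
    | zero => simp
    | add x y hx hy => simp only [map_add, hx, hy]
    | tmul x y => simp [map_smul]
  rw [← e, rTensor_counit_comul]
  simp

/-- A normal subgroup is cut out by its coinvariants, over an algebraically closed field. -/
theorem ker_le_of_isAlgClosed [IsAlgClosed k] [Algebra.FiniteType k A] (hN : IsNormal π)
    (hπ : Function.Surjective π) : RingHom.ker (π : A →ₐ[k] C) ≤ HopfFlat.augJ (coinv π) := by
  have hocc : ∀ χ : C, IsGroupLikeElem k χ →
      (∃ (V : Type u) (_ : AddCommGroup V) (_ : Module k V) (_ : HopfRep.Comod k A V) (_ : Module.Finite k V) (v : V),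
          v ≠ 0 ∧ LinearMap.lTensor V π.toLinearMap (HopfRep.Comod.coact (k := k) (A := A) v) = v ⊗ₜ[k] χ) →
      ∃ m : ℕ, 0 < m ∧ ∃ ψ : C, IsGroupLikeElem k ψ ∧ ψ * χ ^ m = 1 ∧
        ∃ (V : Type u) (_ : AddCommGroup V) (_ : Module k V) (_ : HopfRep.Comod k A V) (_ : Module.Finite k V) (v : V),
          v ≠ 0 ∧ LinearMap.lTensor V π.toLinearMap (HopfRep.Comod.coact (k := k) (A := A) v) = v ⊗ₜ[k] ψ := by
    rintro χ hχ ⟨V, _, _, _, _, v, hv, h⟩
    obtain ⟨a, ha, hπa, -⟩ := exists_normalized (π := π) hv h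
    obtain ⟨m, hm, b, hb, hbχ⟩ := hN.exists_neg_pow_eig hπ ha hπa hχ
    have hb0 : b ≠ 0 := by
      rintro rfl
      haveI : Nontrivial C := Bialgebra.nontrivial k
      rw [map_zero, zero_mul] at hbχ
      exact zero_ne_one hbχ
    obtain ⟨a', -, -, hgl⟩ := exists_normalized (π := π) (V := A) hb0 hb
    obtain ⟨N, hN', hfin, hbN⟩ := Comodule.exists_finite_subcomod (k := k) (A := A) (V := A) b
    haveI := hfin
    letI := Comodule.subComod (k := k) (A := A) N hN'
    refine ⟨m, hm, π b, hgl, hbχ, N, inferInstance, inferInstance, inferInstance, hfin, ⟨b, hbN⟩,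
      fun h0 => hb0 (congrArg Subtype.val h0), ?_⟩
    refine Module.Flat.rTensor_preserves_injective_linearMap (M := C) N.subtype N.injective_subtype ?_
    rw [← LinearMap.comp_apply, LinearMap.rTensor_comp_lTensor, ← LinearMap.lTensor_comp_rTensor,
      LinearMap.comp_apply]
    show _ = b ⊗ₜ[k] π b
    rw [show N.subtype.rTensor A (HopfRep.Comod.coact (k := k) (A := A) (⟨b, hbN⟩ : N)) = comul (R := k) b from
      Comodule.rTensor_coactRestrict N hN' ⟨b, hbN⟩]
    exact hb
  obtain ⟨V, _, _, _, _, v, hv, hrep, hfix⟩ := S16476.result k A C π hπ hocc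
  intro x hx
  let J := HopfFlat.augJ (coinv π)
  let q := Ideal.Quotient.mkₐ k J
  refine Ideal.Quotient.eq_zero_iff_mem.1 ((hrep (A ⧸ J) q).2 ⟨1, ?_⟩ x hx)
  obtain ⟨w, hw⟩ := coact_mem_lTensor (π := π) (mem_fixedSub.2 hfix)
  have hc := LinearMap.congr_fun (HopfRep.Comod.counit_comp (k := k) (A := A) (V := V)) v
  simp only [LinearMap.comp_apply, LinearMap.flip_apply, TensorProduct.mk_apply] at hc
  rw [← hw] at hc ⊢
  have e : ∀ w : V ⊗[k] coinv π, q.toLinearMap.lTensor V ((coinv π).val.toLinearMap.lTensor V w) =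
      TensorProduct.rid k V ((counit (R := k)).lTensor V ((coinv π).val.toLinearMap.lTensor V w)) ⊗ₜ[k] (1 : A ⧸ J) := by
    intro w
    induction w using TensorProduct.induction_on with
    | zero => simp
    | add x y hx hy => simp only [map_add, TensorProduct.add_tmul, hx, hy]
    | tmul x y =>
      simp only [LinearMap.lTensor_tmul, AlgHom.toLinearMap_apply, Subalgebra.coe_val, TensorProduct.rid_tmul]
      rw [show q (y : A) = _ from HopfFlat.mk_eq_counit (coinv π) y.2, Algebra.algebraMap_eq_smul_one,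
        TensorProduct.tmul_smul, TensorProduct.smul_tmul']
  rw [e, hc]
  simp

section BaseChange

variable (K : Type u) [Field K] [Algebra k K]

/-- Restriction of points along `A → K ⊗ A`. -/
theorem res_mul {T : Type u} [CommRing T] [Algebra K T] [Algebra k T] [IsScalarTower k K T]
    (P Q : WithConv (K ⊗[k] A →ₐ[K] T)) :
    ((P * Q).ofConv.restrictScalars k).comp (Algebra.TensorProduct.includeRight : A →ₐ[k] K ⊗[k] A) =
      (toConv ((P.ofConv.restrictScalars k).comp (Algebra.TensorProduct.includeRight : A →ₐ[k] K ⊗[k] A)) *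
        toConv ((Q.ofConv.restrictScalars k).comp (Algebra.TensorProduct.includeRight : A →ₐ[k] K ⊗[k] A))).ofConv := by
  refine AlgHom.ext fun a => ?_
  rw [AlgHom.convMul_apply]
  show (P * Q).ofConv ((1 : K) ⊗ₜ[k] a) = _
  rw [AlgHom.convMul_apply, OT.comul_one_tmul K a (ℛ k a), ← (ℛ k a).eq, map_sum, map_sum]
  refine Finset.sum_congr rfl fun i _ => ?_
  simp

theorem res_inv {T : Type u} [CommRing T] [Algebra K T] [Algebra k T] [IsScalarTower k K T]
    (P : WithConv (K ⊗[k] A →ₐ[K] T)) :
    toConv (((pinv P).ofConv.restrictScalars k).comp (Algebra.TensorProduct.includeRight : A →ₐ[k] K ⊗[k] A)) =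
      pinv (toConv ((P.ofConv.restrictScalars k).comp (Algebra.TensorProduct.includeRight : A →ₐ[k] K ⊗[k] A))) := by
  refine ofConv_injective (AlgHom.ext fun a => ?_)
  show P.ofConv (antipode K ((1 : K) ⊗ₜ[k] a)) = P.ofConv ((1 : K) ⊗ₜ[k] antipode k a)
  congr 1

/-- The base change of the projection to the subgroup. -/
noncomputable abbrev bc (π : A →ₐc[k] C) : K ⊗[k] A →ₐc[K] K ⊗[k] C :=
  Bialgebra.TensorProduct.map (BialgHom.id K K) π

theorem IsNormal.baseChange (hN : IsNormal π) (hπ : Function.Surjective π) : IsNormal (bc K π) := by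
  intro z hz
  have hz' : (π : A →ₗ[k] C).lTensor K z = 0 := hz
  obtain ⟨w, rfl⟩ := (Module.Flat.lTensor_exact K (LinearMap.exact_subtype_ker_map (π : A →ₗ[k] C)) z).1 hz'
  induction w using TensorProduct.induction_on with
  | zero => simp
  | add x y hx hy =>
    have mem : ∀ w, (π : A →ₗ[k] C).lTensor K ((LinearMap.ker (π : A →ₗ[k] C)).subtype.lTensor K w) = 0 := fun w =>
      (Module.Flat.lTensor_exact K (LinearMap.exact_subtype_ker_map (π : A →ₗ[k] C)) _).2 ⟨w, rfl⟩
    rw [map_add, map_add, hx (mem x) (mem x), hy (mem y) (mem y), add_zero]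
  | tmul c a =>
    have h1 : conj (bc K π) ((1 : K) ⊗ₜ[k] (a : A)) = 0 := by
      let T := (K ⊗[k] A) ⊗[K] (K ⊗[k] C)
      let jA : A →ₐ[k] K ⊗[k] A := Algebra.TensorProduct.includeRight
      let jC : C →ₐ[k] K ⊗[k] C := Algebra.TensorProduct.includeRight
      let G : WithConv (A →ₐ[k] T) :=
        toConv (((Algebra.TensorProduct.includeLeft : K ⊗[k] A →ₐ[K] T).restrictScalars k).comp jA)
      let h : C →ₐ[k] T := ((Algebra.TensorProduct.includeRight : K ⊗[k] C →ₐ[K] T).restrictScalars k).comp jC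
      have hG : ((conj (bc K π)).restrictScalars k).comp jA =
          (G * toConv (h.comp (π : A →ₐ[k] C)) * pinv G).ofConv := by
        let P : WithConv (K ⊗[k] A →ₐ[K] T) := toConv Algebra.TensorProduct.includeLeft
        let Q : WithConv (K ⊗[k] A →ₐ[K] T) :=
          toConv (Algebra.TensorProduct.includeRight.comp (bc K π : K ⊗[k] A →ₐ[K] K ⊗[k] C))
        have e : conj (bc K π) = (P * Q * pinv P).ofConv := rfl
        rw [e, res_mul]
        refine congrArg ofConv ?_
        rw [res_inv, show toConv (((P * Q).ofConv.restrictScalars k).comp jA) = _ from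
          congrArg toConv (res_mul (A := A) K P Q)]
        refine congrArg (fun y => G * y * pinv G) (ofConv_injective (AlgHom.ext fun y => ?_))
        show (1 : K ⊗[k] A) ⊗ₜ[K] (bc K π ((1 : K) ⊗ₜ[k] y)) = (1 : K ⊗[k] A) ⊗ₜ[K] ((1 : K) ⊗ₜ[k] π y)
        rfl
      have := AlgHom.congr_fun hG (a : A)
      rw [hN.apply_eq_zero G h (show π (a : A) = 0 from LinearMap.mem_ker.1 a.2)] at this
      exact this
    have h2 : c ⊗ₜ[k] (a : A) = c • ((1 : K) ⊗ₜ[k] (a : A)) := by simp [TensorProduct.smul_tmul']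
    rw [LinearMap.lTensor_tmul, Submodule.subtype_apply, h2, map_smul, h1, smul_zero]

theorem augJ_coinv_bc_le :
    HopfFlat.augJ (coinv (bc K π)) ≤
      (HopfFlat.augJ (coinv π)).map (Algebra.TensorProduct.includeRight : A →ₐ[k] K ⊗[k] A).toRingHom := by
  refine Ideal.span_le.2 fun z hz => ?_
  let δ : A →ₗ[k] A ⊗[k] C :=
    (TensorProduct.map (LinearMap.id : A →ₗ[k] A) (π : A →ₗ[k] C)) ∘ₗ comul -
      (Algebra.TensorProduct.includeLeft : A →ₐ[k] A ⊗[k] C).toLinearMap
  have hex : Function.Exact (coinv π).val.toLinearMap δ := fun x => by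
    refine ⟨fun hx => ⟨⟨x, sub_eq_zero.1 hx⟩, rfl⟩, ?_⟩
    rintro ⟨y, rfl⟩
    exact sub_eq_zero.2 y.2
  let e := AlgebraTensorModule.distribBaseChange k K A C
  have he : ∀ z : K ⊗[k] A, e (δ.lTensor K z) =
      TensorProduct.map (LinearMap.id : K ⊗[k] A →ₗ[K] K ⊗[k] A) (bc K π : K ⊗[k] A →ₗ[K] K ⊗[k] C)
        (comul (R := K) z) - z ⊗ₜ[K] (1 : K ⊗[k] C) := by
    intro z
    induction z using TensorProduct.induction_on with
    | zero => simp
    | add x y hx hy => simp only [map_add, hx, hy, TensorProduct.add_tmul]; abel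
    | tmul c a =>
      have hca : c ⊗ₜ[k] a = c • ((1 : K) ⊗ₜ[k] a) := by simp [TensorProduct.smul_tmul']
      rw [LinearMap.lTensor_tmul, hca, map_smul, map_smul, OT.comul_one_tmul K a (ℛ k a),
        show c ⊗ₜ[k] δ a = c • ((1 : K) ⊗ₜ[k] δ a) by simp [TensorProduct.smul_tmul'], map_smul,
        ← TensorProduct.smul_tmul']
      refine Eq.trans ?_ (smul_sub c _ _)
      congr 1
      simp only [δ, LinearMap.sub_apply, LinearMap.comp_apply, TensorProduct.tmul_sub, map_sub, map_sum,
        AlgHom.toLinearMap_apply, Algebra.TensorProduct.includeLeft_apply]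
      rw [← (ℛ k a).eq, map_sum, TensorProduct.tmul_sum, map_sum]
      simp [e, AlgebraTensorModule.distribBaseChange, Algebra.TensorProduct.one_def]
  have h0 : δ.lTensor K z = 0 := e.injective (by
    rw [he, map_zero, sub_eq_zero]
    exact hz.1)
  obtain ⟨w, rfl⟩ := (Module.Flat.lTensor_exact K hex z).1 h0
  have key : ∀ w : K ⊗[k] coinv π,
      (coinv π).val.toLinearMap.lTensor K w - algebraMap K (K ⊗[k] A)
          (counit (R := K) ((coinv π).val.toLinearMap.lTensor K w)) ∈
        (HopfFlat.augJ (coinv π)).map (Algebra.TensorProduct.includeRight : A →ₐ[k] K ⊗[k] A).toRingHom := by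
    intro w
    induction w using TensorProduct.induction_on with
    | zero => simp
    | add x y hx hy => simp only [map_add, add_sub_add_comm]; exact add_mem hx hy
    | tmul c b =>
      have hb : (b : A) - algebraMap k A (counit (R := k) (b : A)) ∈ HopfFlat.augJ (coinv π) :=
        Ideal.subset_span ⟨Subalgebra.sub_mem _ b.2 (Subalgebra.algebraMap_mem _ _), by simp⟩
      have h := Ideal.mul_mem_left _ (algebraMap K (K ⊗[k] A) c)
        (Ideal.mem_map_of_mem (Algebra.TensorProduct.includeRight : A →ₐ[k] K ⊗[k] A).toRingHom hb)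
      convert h using 1
      simp [Algebra.algebraMap_eq_smul_one, mul_sub, TensorProduct.smul_tmul', TensorProduct.tmul_smul,
        TensorProduct.tmul_sub, Algebra.TensorProduct.one_def, mul_comm]
  have := key w
  rwa [show counit (R := K) ((coinv π).val.toLinearMap.lTensor K w) = 0 from hz.2, map_zero, sub_zero] at this

end BaseChange

/-- A normal subgroup of an affine algebraic group is cut out by its coinvariants. -/
theorem ker_le_of_finiteType [Algebra.FiniteType k A] (hN : IsNormal π) (hπ : Function.Surjective π) :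
    RingHom.ker (π : A →ₐ[k] C) ≤ HopfFlat.augJ (coinv π) := by
  let K := AlgebraicClosure k
  intro x hx
  have hsurj : Function.Surjective (bc K π) := LinearMap.lTensor_surjective K (g := (π : A →ₗ[k] C)) hπ
  haveI : Algebra.FiniteType K (K ⊗[k] A) := inferInstance
  have hmem : (1 : K) ⊗ₜ[k] x ∈ RingHom.ker (bc K π : K ⊗[k] A →ₐ[K] K ⊗[k] C) := by
    show (1 : K) ⊗ₜ[k] π x = 0
    rw [show π x = 0 from hx, TensorProduct.tmul_zero]
  have h2 := augJ_coinv_bc_le (π := π) K (ker_le_of_isAlgClosed (hN.baseChange K hπ) hsurj hmem)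
  letI := Algebra.TensorProduct.rightAlgebra (R := k) (A := K) (B := A)
  haveI : Module.FaithfullyFlat A (K ⊗[k] A) := Module.FaithfullyFlat.of_linearEquiv _ _
    (Algebra.TensorProduct.commRight k A K).symm.toLinearEquiv
  rw [← Ideal.comap_map_eq_self_of_faithfullyFlat (B := K ⊗[k] A) (HopfFlat.augJ (coinv π))]
  exact h2

/-- A normal subgroup of an affine group is cut out by its coinvariants. -/
theorem IsNormal.ker_eq_augJ (hN : IsNormal π) (hπ : Function.Surjective π) :
    RingHom.ker (π : A →ₐ[k] C) = HopfFlat.augJ (coinv π) := by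
  classical
  refine le_antisymm (fun x hx => ?_) augJ_coinv_le
  obtain ⟨T, hT, hTfg, hxT⟩ := HopfFlat.exists_fg_isSub (k := k) ({x} : Finset A)
  obtain ⟨A', _, _, e, he, hΔ⟩ := FinGrp.exists_hopf_sub T hT.comul_mem hT.antipode_mem
  let j : A' →ₐc[k] A := BialgHom.ofAlgHom (T.val.comp e.toAlgHom) (AlgHom.ext fun b => (he b).symm)
    (AlgHom.ext fun b => hΔ b)
  haveI : Algebra.FiniteType k A' :=
    haveI : Algebra.FiniteType k T := (Subalgebra.fg_iff_finiteType _).1 hTfg
    Algebra.FiniteType.equiv inferInstance e.symm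
  let φ : A' →ₐc[k] C := π.comp j
  let I' : Ideal A' := RingHom.ker (φ : A' →ₐ[k] C)
  let i : A' ⧸ I' →ₐ[k] C := Ideal.Quotient.liftₐ I' (φ : A' →ₐ[k] C) fun _ h => h
  have hi : ∀ y, i (Ideal.Quotient.mk I' y) = φ y := fun y => Ideal.Quotient.liftₐ_apply _ _ _ _
  have hiinj : Function.Injective i := by
    refine (injective_iff_map_eq_zero i).2 fun y hy => ?_
    obtain ⟨y, rfl⟩ := Ideal.Quotient.mk_surjective y
    exact Ideal.Quotient.eq_zero_iff_mem.2 ((hi y).symm.trans hy)
  let q := Ideal.Quotient.mkₐ k I'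
  haveI : I'.IsHopfIdeal k :=
    { counit_eq_zero := fun y (hy : φ y = 0) => by
        rw [← CoalgHomClass.counit_comp_apply φ y, hy, map_zero]
      map_mkQ_comul_eq_zero := fun y (hy : φ y = 0) => by
        refine TensorProduct.map_injective_of_flat_flat i.toLinearMap i.toLinearMap hiinj hiinj ?_
        refine Eq.trans ?_ (_root_.map_zero (TensorProduct.map i.toLinearMap i.toLinearMap)).symm
        show Algebra.TensorProduct.map i i (Algebra.TensorProduct.map q q (comul (R := k) y)) = 0
        have : ∀ z : A' ⊗[k] A', Algebra.TensorProduct.map i i (Algebra.TensorProduct.map q q z) =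
            TensorProduct.map (φ : A' →ₗ[k] C) (φ : A' →ₗ[k] C) z := by
          intro z
          induction z using TensorProduct.induction_on with
          | zero => simp
          | add p r hp hr => simp only [map_add, hp, hr]
          | tmul p r =>
            show i (Ideal.Quotient.mk I' p) ⊗ₜ[k] i (Ideal.Quotient.mk I' r) = φ p ⊗ₜ[k] φ r
            rw [hi, hi]
        rw [this, CoalgHomClass.map_comp_comul_apply φ, hy, map_zero]
      antipode_mem := fun y (hy : φ y = 0) => by
        show φ (antipode k y) = 0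
        rw [MultTypeLib.bialgHom_map_antipode, hy, map_zero] }
  let π' := Bialgebra.Quotient.mkBialgHom (R := k) I'
  have hji : Function.Injective (Algebra.TensorProduct.map (j : A' →ₐ[k] A) i) :=
    TensorProduct.map_injective_of_flat_flat (j : A' →ₐ[k] A).toLinearMap i.toLinearMap
      (fun a b h => e.injective (Subtype.ext h)) hiinj
  have hN' : IsNormal π' := by
    intro y hy
    refine hji ?_
    rw [map_zero]
    let G : WithConv (A' →ₐ[k] A ⊗[k] C) :=
      toConv ((Algebra.TensorProduct.includeLeft : A →ₐ[k] A ⊗[k] C).comp (j : A' →ₐ[k] A))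
    have e1 : (Algebra.TensorProduct.map (j : A' →ₐ[k] A) i).comp (conj π') = (conj π).comp (j : A' →ₐ[k] A) := by
      let L' : WithConv (A' →ₐ[k] A' ⊗[k] (A' ⧸ I')) := toConv Algebra.TensorProduct.includeLeft
      let R' : WithConv (A' →ₐ[k] A' ⊗[k] (A' ⧸ I')) :=
        toConv (Algebra.TensorProduct.includeRight.comp (π' : A' →ₐ[k] A' ⧸ I'))
      let L : WithConv (A →ₐ[k] A ⊗[k] C) := toConv Algebra.TensorProduct.includeLeft
      let R : WithConv (A →ₐ[k] A ⊗[k] C) := toConv (Algebra.TensorProduct.includeRight.comp (π : A →ₐ[k] C))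
      let M := Algebra.TensorProduct.map (j : A' →ₐ[k] A) i
      let post : WithConv (A' →ₐ[k] A' ⊗[k] (A' ⧸ I')) → WithConv (A' →ₐ[k] A ⊗[k] C) :=
        fun x => toConv (M.comp x.ofConv)
      let pre : WithConv (A →ₐ[k] A ⊗[k] C) → WithConv (A' →ₐ[k] A ⊗[k] C) :=
        fun x => toConv (x.ofConv.comp (j : A' →ₐ[k] A))
      have hpost : ∀ P Q, post (P * Q) = post P * post Q := fun P Q =>
        ofConv_injective (AlgHom.comp_convMul_distrib M P Q)
      have hpre : ∀ P Q, pre (P * Q) = pre P * pre Q := fun P Q =>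
        ofConv_injective (AlgHom.convMul_comp_bialgHom_distrib P Q j)
      show (post (L' * R' * pinv L')).ofConv = (pre (L * R * pinv L)).ofConv
      have a1 : post L' = pre L := ofConv_injective (AlgHom.ext fun z => by
        show j z ⊗ₜ[k] i 1 = j z ⊗ₜ[k] (1 : C)
        rw [map_one])
      have a2 : post R' = pre R := ofConv_injective (AlgHom.ext fun z => by
        show j 1 ⊗ₜ[k] i (Ideal.Quotient.mk I' z) = (1 : A) ⊗ₜ[k] π (j z)
        rw [map_one, hi]
        rfl)
      have a3 : post (pinv L') = pre (pinv L) := ofConv_injective (AlgHom.ext fun z => by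
        show j (antipode k z) ⊗ₜ[k] i 1 = antipode k (j z) ⊗ₜ[k] (1 : C)
        rw [map_one, MultTypeLib.bialgHom_map_antipode])
      rw [hpost, hpost, hpre, hpre, a1, a2, a3]
    exact (AlgHom.congr_fun e1 y).trans (hN _ ((hi y).symm.trans (by rw [show Ideal.Quotient.mk I' y = 0 from hy, map_zero])))
  obtain ⟨⟨y, hy⟩⟩ : Nonempty {y : A' // j y = x} := ⟨⟨e.symm ⟨x, hxT (by simp)⟩,
    congrArg Subtype.val (e.apply_symm_apply _)⟩⟩
  have hy' : y ∈ RingHom.ker (π' : A' →ₐ[k] A' ⧸ I') := by
    show Ideal.Quotient.mk I' y = 0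
    refine Ideal.Quotient.eq_zero_iff_mem.2 ?_
    show π (j y) = 0
    rw [hy]
    exact hx
  have hle : (HopfFlat.augJ (coinv π')).map (j : A' →ₐ[k] A).toRingHom ≤ HopfFlat.augJ (coinv π) := by
    rw [HopfFlat.augJ, Ideal.map_span, Ideal.span_le]
    rintro _ ⟨b, ⟨hb, hb0⟩, rfl⟩
    refine Ideal.subset_span ⟨?_, (CoalgHomClass.counit_comp_apply j b).trans hb0⟩
    rw [mem_coinv]
    show TensorProduct.map _ _ (comul (R := k) (j b)) = j b ⊗ₜ[k] 1
    rw [← CoalgHomClass.map_comp_comul_apply j]
    have h := congrArg (Algebra.TensorProduct.map (j : A' →ₐ[k] A) i) (mem_coinv.1 hb)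
    rw [Algebra.TensorProduct.map_tmul, map_one] at h
    refine Eq.trans ?_ h
    induction comul (R := k) b using TensorProduct.induction_on with
    | zero => simp
    | add p r hp hr => simp only [map_add, hp, hr]
    | tmul p r =>
      show j p ⊗ₜ[k] π (j r) = j p ⊗ₜ[k] i (Ideal.Quotient.mk I' r)
      rw [hi]
      rfl
  rw [← hy]
  exact hle (Ideal.mem_map_of_mem _ (ker_le_of_finiteType hN' Ideal.Quotient.mk_surjective hy'))

end Groth.Agent.NormQuot
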