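import Groth.Agent.Lib.NormQuot20.Basic
import Groth.Agent.Lib.HopfFlat20.Frob
import Groth.Agent.Lib.HopfFlat20.Points
import Groth.Agent.Lib.HopfFlat20.Main
import Groth.Agent.Lib.HopfRedH28.Basic
import Groth.Agent.Lib.Chevalley.Basic
import Mathlib.LinearAlgebra.Basis.VectorSpace
import Mathlib.LinearAlgebra.Matrix.Determinant.Basic

/-!
# Characters of a normal subgroup occurring in representations
-/

universe u

open TensorProduct Coalgebra HopfAlgebra WithConv

namespace Groth.Agent.NormQuot

variable {k : Type u} [Field k] {A C : Type u} [CommRing A] [HopfAlgebra k A] [CommRing C] [HopfAlgebra k C]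

variable (π : A →ₐc[k] C)

/-- Semi-invariants of weight `θ`. -/
def IsEig (x : A) (θ : C) : Prop :=
  TensorProduct.map (LinearMap.id : A →ₗ[k] A) (π : A →ₗ[k] C) (comul (R := k) x) = x ⊗ₜ[k] θ

variable {π}

theorem IsEig.mul {x y : A} {θ η : C} (hx : IsEig π x θ) (hy : IsEig π y η) : IsEig π (x * y) (θ * η) := by
  let F := (Algebra.TensorProduct.map (AlgHom.id k A) (π : A →ₐ[k] C)).comp (Bialgebra.comulAlgHom k A)
  show F (x * y) = _
  rw [map_mul, show F x = x ⊗ₜ[k] θ from hx, show F y = y ⊗ₜ[k] η from hy,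
    Algebra.TensorProduct.tmul_mul_tmul]

theorem IsEig.one : IsEig π (1 : A) 1 := by
  let F := (Algebra.TensorProduct.map (AlgHom.id k A) (π : A →ₐ[k] C)).comp (Bialgebra.comulAlgHom k A)
  show F 1 = _
  rw [map_one, Algebra.TensorProduct.one_def]

theorem IsEig.prod {ι : Type*} (s : Finset ι) {x : ι → A} {θ : ι → C} (h : ∀ i ∈ s, IsEig π (x i) (θ i)) :
    IsEig π (∏ i ∈ s, x i) (∏ i ∈ s, θ i) := by
  classical
  induction s using Finset.induction_on with
  | empty => simpa using IsEig.one
  | insert i s hi ih =>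
    rw [Finset.prod_insert hi, Finset.prod_insert hi]
    exact (h i (Finset.mem_insert_self i s)).mul (ih fun j hj => h j (Finset.mem_insert_of_mem hj))

theorem IsEig.pow {x : A} {θ : C} (hx : IsEig π x θ) (n : ℕ) : IsEig π (x ^ n) (θ ^ n) := by
  induction n with
  | zero => simpa using IsEig.one
  | succ n ih => rw [pow_succ, pow_succ]; exact ih.mul hx

/-- A character occurring in a representation is the restriction of a semi-invariant function. -/
theorem exists_normalized {V : Type u} [AddCommGroup V] [Module k V] [HopfRep.Comod k A V] {v : V} {θ : C}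
    (hv : v ≠ 0) (h : LinearMap.lTensor V (π : A →ₗ[k] C) (HopfRep.Comod.coact (k := k) (A := A) v) = v ⊗ₜ[k] θ) :
    ∃ a : A, IsEig π a θ ∧ π a = θ ∧ IsGroupLikeElem k θ := by
  obtain ⟨φ, hφ⟩ : ∃ φ : V →ₗ[k] k, φ v = 1 := by
    obtain ⟨φ, hφ⟩ := Module.Projective.exists_dual_eq_one k hv
    exact ⟨φ, hφ⟩
  let ρ := HopfRep.Comod.coact (k := k) (A := A) (V := V)
  let s : V ⊗[k] A →ₗ[k] A := (TensorProduct.lid k A).toLinearMap ∘ₗ φ.rTensor A
  let a := s (ρ v)
  have hπa : π a = θ := by
    have e : ∀ z, π (s z) = TensorProduct.lid k C (φ.rTensor C ((π : A →ₗ[k] C).lTensor V z)) := by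
      intro z
      induction z using TensorProduct.induction_on with
      | zero => simp
      | add x y hx hy => simp only [map_add, hx, hy]
      | tmul x y => simp [s, map_smul]
    rw [e, h]
    simp [hφ]
  have ha : IsEig π a θ := by
    have hco : TensorProduct.assoc k V A A (ρ.rTensor A (ρ v)) = (comul (R := k) (A := A)).lTensor V (ρ v) :=
      LinearMap.congr_fun (HopfRep.Comod.coassoc (k := k) (A := A) (V := V)) v
    have e1 : ∀ z : V ⊗[k] A, comul (R := k) (s z) =
        TensorProduct.lid k (A ⊗[k] A) (φ.rTensor (A ⊗[k] A) (comul.lTensor V z)) := by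
      intro z
      induction z using TensorProduct.induction_on with
      | zero => simp
      | add x y hx hy => simp only [map_add, hx, hy]
      | tmul x y => simp [s, map_smul]
    have e2 : ∀ z : V ⊗[k] A, TensorProduct.map (LinearMap.id : A →ₗ[k] A) (π : A →ₗ[k] C)
        (TensorProduct.lid k (A ⊗[k] A) (φ.rTensor (A ⊗[k] A) (TensorProduct.assoc k V A A (ρ.rTensor A z)))) =
        TensorProduct.lid k (A ⊗[k] C) (φ.rTensor (A ⊗[k] C)
          (TensorProduct.assoc k V A C (ρ.rTensor C ((π : A →ₗ[k] C).lTensor V z)))) := by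
      intro z
      induction z using TensorProduct.induction_on with
      | zero => simp
      | add x y hx hy => simp only [map_add, hx, hy]
      | tmul x y =>
        simp only [LinearMap.rTensor_tmul, LinearMap.lTensor_tmul]
        induction ρ x using TensorProduct.induction_on with
        | zero => simp
        | add u w hu hw => simp only [TensorProduct.add_tmul, map_add, hu, hw]
        | tmul u w => simp
    show TensorProduct.map _ _ (comul (R := k) (s (ρ v))) = s (ρ v) ⊗ₜ[k] θ
    rw [e1, ← hco, e2, h, LinearMap.rTensor_tmul]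
    induction ρ v using TensorProduct.induction_on with
    | zero => simp
    | add u w hu hw => simp only [TensorProduct.add_tmul, map_add, hu, hw]
    | tmul u w => simp [s, TensorProduct.smul_tmul']
  have hε : counit (R := k) a = 1 := by
    have hc := LinearMap.congr_fun (HopfRep.Comod.counit_comp (k := k) (A := A) (V := V)) v
    have e : ∀ z : V ⊗[k] A, counit (R := k) (s z) = TensorProduct.rid k k (φ.rTensor k ((counit (R := k)).lTensor V z)) := by
      intro z
      induction z using TensorProduct.induction_on with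
      | zero => simp
      | add x y hx hy => simp only [map_add, hx, hy]
      | tmul x y => simp [s, mul_comm]
    rw [e]
    refine (congrArg (fun z => TensorProduct.rid k k (φ.rTensor k z)) hc).trans ?_
    simp [hφ]
  refine ⟨a, ha, hπa, ⟨?_, ?_⟩⟩
  · rw [← hπa, CoalgHomClass.counit_comp_apply π, hε]
  · rw [← hπa, ← CoalgHomClass.map_comp_comul_apply π]
    have e : ∀ z : A ⊗[k] A, TensorProduct.map (π : A →ₗ[k] C) (π : A →ₗ[k] C) z =
        (π : A →ₗ[k] C).rTensor C (TensorProduct.map (LinearMap.id : A →ₗ[k] A) (π : A →ₗ[k] C) z) := by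
      intro z
      induction z using TensorProduct.induction_on with
      | zero => simp
      | add x y hx hy => simp only [map_add, hx, hy]
      | tmul x y => simp
    rw [e, show TensorProduct.map (LinearMap.id : A →ₗ[k] A) (π : A →ₗ[k] C) (comul (R := k) a) = a ⊗ₜ[k] θ from ha]
    show π a ⊗ₜ[k] θ = π a ⊗ₜ[k] π a
    rw [hπa]

theorem IsEig.apply_conv {x : A} {θ : C} (hx : IsEig π x θ) {R : Type u} [CommRing R] [Algebra k R]
    (g : WithConv (A →ₐ[k] R)) (h : C →ₐ[k] R) :
    (g * toConv (h.comp (π : A →ₐ[k] C))).ofConv x = g.ofConv x * h θ := by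
  let φ := Algebra.TensorProduct.lift g.ofConv h fun _ _ => Commute.all _ _
  have e : ∀ z : A ⊗[k] A, Algebra.TensorProduct.lift g.ofConv (h.comp (π : A →ₐ[k] C))
      (fun _ _ => Commute.all _ _) z =
      φ (TensorProduct.map (LinearMap.id : A →ₗ[k] A) (π : A →ₗ[k] C) z) := by
    intro z
    induction z using TensorProduct.induction_on with
    | zero => simp
    | add p q hp hq => simp only [map_add, hp, hq]
    | tmul p q => simp [φ]
  rw [AlgHom.convMul_apply]
  refine (e _).trans ?_
  rw [show TensorProduct.map (LinearMap.id : A →ₗ[k] A) (π : A →ₗ[k] C) (comul (R := k) x) = x ⊗ₜ[k] θ from hx]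
  simp [φ]

/-- Right translation by a rational point permutes the semi-invariants. -/
theorem IsNormal.exists_isEig_translate (hN : IsNormal π) (hπ : Function.Surjective π) {x : A} {θ : C}
    (hx : IsEig π x θ) (z : A →ₐ[k] k) :
    ∃ θ', IsEig π (TensorProduct.rid k A (z.toLinearMap.lTensor A (comul (R := k) x))) θ' := by
  let Z₀ : WithConv (A →ₐ[k] C) := toConv ((Algebra.ofId k C).comp z)
  obtain ⟨n, hn⟩ := hN.exists_point hπ (pinv Z₀) (AlgHom.id k C)
  have h0 : toConv (π : A →ₐ[k] C) * Z₀ = Z₀ * toConv (n.comp (π : A →ₐ[k] C)) := by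
    calc toConv (π : A →ₐ[k] C) * Z₀ = Z₀ * (pinv Z₀ * toConv ((AlgHom.id k C).comp (π : A →ₐ[k] C))) * Z₀ := by
          rw [← mul_assoc Z₀, mul_pinv, one_mul, AlgHom.id_comp]
      _ = Z₀ * (toConv (n.comp (π : A →ₐ[k] C)) * pinv Z₀) * Z₀ := by rw [hn]
      _ = Z₀ * toConv (n.comp (π : A →ₐ[k] C)) := by rw [mul_assoc, mul_assoc, pinv_mul, mul_one]
  let iR : C →ₐ[k] A ⊗[k] C := Algebra.TensorProduct.includeRight
  let G : WithConv (A →ₐ[k] A ⊗[k] C) := toConv Algebra.TensorProduct.includeLeft
  let Z : WithConv (A →ₐ[k] A ⊗[k] C) := toConv ((Algebra.ofId k (A ⊗[k] C)).comp z)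
  let N : WithConv (A →ₐ[k] A ⊗[k] C) := toConv (iR.comp (π : A →ₐ[k] C))
  have hZ : iR.comp Z₀.ofConv = Z.ofConv := AlgHom.ext fun y => iR.commutes (z y)
  have hNZ : N * Z = Z * toConv ((iR.comp n).comp (π : A →ₐ[k] C)) := by
    apply ofConv_injective
    have e1 := AlgHom.comp_convMul_distrib iR (toConv (π : A →ₐ[k] C)) Z₀
    rw [h0, AlgHom.comp_convMul_distrib, hZ] at e1
    exact e1.symm
  refine ⟨n θ, ?_⟩
  let T : A := TensorProduct.rid k A (z.toLinearMap.lTensor A (comul (R := k) x))
  have h1 : (G * N * Z).ofConv x =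
      TensorProduct.map (LinearMap.id : A →ₗ[k] A) (π : A →ₗ[k] C) (comul (R := k) T) := by
    have e : (G * N).ofConv T = TensorProduct.map (LinearMap.id : A →ₗ[k] A) (π : A →ₗ[k] C) (comul (R := k) T) := by
      rw [AlgHom.convMul_apply]
      induction comul (R := k) T using TensorProduct.induction_on with
      | zero => simp
      | add p q hp hq => simp only [map_add, hp, hq]
      | tmul p q => simp [G, N, iR]
    rw [← e, AlgHom.convMul_apply]
    show _ = (G * N).ofConv (TensorProduct.rid k A (z.toLinearMap.lTensor A (comul (R := k) x)))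
    induction comul (R := k) x using TensorProduct.induction_on with
    | zero => simp
    | add p q hp hq => simp only [map_add, hp, hq]
    | tmul p q => simp [Z, Algebra.smul_def, mul_comm]
  have h2 : (G * Z).ofConv x = T ⊗ₜ[k] (1 : C) := by
    rw [AlgHom.convMul_apply]
    show _ = (Algebra.TensorProduct.includeLeft : A →ₐ[k] A ⊗[k] C)
      (TensorProduct.rid k A (z.toLinearMap.lTensor A (comul (R := k) x)))
    induction comul (R := k) x using TensorProduct.induction_on with
    | zero => simp
    | add p q hp hq => simp only [map_add, hp, hq]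
    | tmul p q =>
      rw [LinearMap.lTensor_tmul, TensorProduct.rid_tmul, map_smul, Algebra.TensorProduct.lift_tmul,
        Algebra.smul_def, mul_comm]
      rfl
  show TensorProduct.map (LinearMap.id : A →ₗ[k] A) (π : A →ₗ[k] C) (comul (R := k) T) = T ⊗ₜ[k] n θ
  rw [← h1, mul_assoc, hNZ, ← mul_assoc, hx.apply_conv, h2]
  simp [iR]

theorem isGroupLikeElem_det {ι : Type*} [Fintype ι] [DecidableEq ι] {X : Matrix ι ι A}
    (hX : Chevalley.IsMul (k := k) X) : IsGroupLikeElem k X.det := by
  constructor
  · show Bialgebra.counitAlgHom k A X.det = 1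
    rw [AlgHom.map_det]
    have : (Bialgebra.counitAlgHom k A).mapMatrix X = 1 := by
      ext i j
      simp [hX.counit, Matrix.one_apply]
    rw [this, Matrix.det_one]
  · show Bialgebra.comulAlgHom k A X.det = _
    rw [AlgHom.map_det]
    have : (Bialgebra.comulAlgHom k A).mapMatrix X =
        (Algebra.TensorProduct.includeLeft : A →ₐ[k] A ⊗[k] A).mapMatrix X *
          (Algebra.TensorProduct.includeRight : A →ₐ[k] A ⊗[k] A).mapMatrix X := by
      ext i j
      simp [Matrix.mul_apply, hX.comul]
    rw [this, Matrix.det_mul, ← AlgHom.map_det, ← AlgHom.map_det]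
    simp

/-- The inverse of the `q`-th power of an occurring character occurs, given a reduced sub Hopf algebra. -/
theorem exists_inverse [IsAlgClosed k] [Algebra.FiniteType k A] {P : Type u} [CommRing P] [HopfAlgebra k P]
    [Algebra.FiniteType k P] [_root_.IsReduced P] (ι : P →ₐc[k] A) (hι : Function.Injective ι)
    (hlift : ∀ y : P →ₐ[k] k, ∃ z : A →ₐ[k] k, z.comp (ι : P →ₐ[k] A) = y)
    (hN : IsNormal π) (hπ : Function.Surjective π) {a : A} {χ : C} (ha : IsEig π a χ) (hπa : π a = χ)
    (hχ : IsGroupLikeElem k χ) (hmem : a ∈ (ι : P →ₐ[k] A).range) :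
    ∃ b : A, IsEig π b (π b) ∧ π b * χ = 1 := by
  classical
  let Pr : Submodule k A := LinearMap.range (ι : P →ₐ[k] A).toLinearMap
  have hPr : HopfRep.IsSubcomod (k := k) (A := A) Pr := by
    rintro _ ⟨y, rfl⟩
    refine ⟨TensorProduct.map (LinearMap.rangeRestrict (ι : P →ₐ[k] A).toLinearMap) (ι : P →ₐ[k] A).toLinearMap
      (comul (R := k) y), ?_⟩
    show _ = comul (R := k) (ι y)
    rw [← CoalgHomClass.map_comp_comul_apply ι]
    induction comul (R := k) y using TensorProduct.induction_on with
    | zero => simp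
    | add p q hp hq => simp only [map_add, hp, hq]
    | tmul p q => simp
  obtain ⟨N, hN', hfin, haN⟩ := Comodule.exists_finite_subcomod (k := k) (A := A) (V := A) a
  haveI := hfin
  let V0 := N ⊓ Pr
  have hV0 : HopfRep.IsSubcomod (k := k) (A := A) V0 := Comodule.isSubcomod_inf hN' hPr
  let E : Set A := {x | x ∈ V0 ∧ ∃ θ, IsEig π x θ}
  let U : Submodule k A := Submodule.span k E
  have hUV : U ≤ V0 := Submodule.span_le.2 fun x hx => hx.1
  have hUz : ∀ (z : A →ₐ[k] k), ∀ x ∈ U, TensorProduct.rid k A (z.toLinearMap.lTensor A (comul (R := k) x)) ∈ U := by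
    intro z x hx
    induction hx using Submodule.span_induction with
    | mem x hx =>
      obtain ⟨hxV, θ, hθ⟩ := hx
      refine Submodule.subset_span ⟨?_, hN.exists_isEig_translate hπ hθ z⟩
      obtain ⟨w, hw⟩ := hV0 x hxV
      rw [show comul (R := k) x = HopfRep.Comod.coact (k := k) (A := A) x from rfl, ← hw]
      clear hw
      induction w using TensorProduct.induction_on with
      | zero => simp
      | add p q hp hq => simp only [map_add]; exact add_mem hp hq
      | tmul p q => simpa using V0.smul_mem _ p.2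
    | zero => simp
    | add x y _ _ hx hy => simp only [map_add]; exact add_mem hx hy
    | smul c x _ hx => simp only [map_smul]; exact U.smul_mem c hx
  have hU : HopfRep.IsSubcomod (k := k) (A := A) U := by
    intro x hx
    refine (Comodule.mem_tens_ker_iff U.mkQ _).2 ?_ |> fun h => by rwa [Submodule.ker_mkQ] at h
    obtain ⟨y, hy⟩ := (hUV hx).2
    obtain rfl : ι y = x := hy
    show U.mkQ.rTensor A (comul (R := k) (ι y)) = 0
    rw [← CoalgHomClass.map_comp_comul_apply ι]
    let c := Module.Free.chooseBasis k (A ⧸ U)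
    let w : (A ⧸ U) ⊗[k] P := TensorProduct.map (U.mkQ ∘ₗ (ι : P →ₐ[k] A).toLinearMap) LinearMap.id
      (comul (R := k) y)
    have hw : w = 0 := by
      apply (TensorProduct.equivFinsuppOfBasisLeft (N := P) c).injective
      rw [map_zero]
      ext i
      rw [Finsupp.zero_apply]
      by_contra hne
      obtain ⟨y', hy'⟩ := HopfFlat.exists_point_ne_zero (k := k) (A := P) (fun h => hne h.eq_zero)
      obtain ⟨z, rfl⟩ := hlift y'
      apply hy'
      have e : ∀ d : P ⊗[k] P, (z.comp (ι : P →ₐ[k] A)) (TensorProduct.equivFinsuppOfBasisLeft (N := P) c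
          (TensorProduct.map (U.mkQ ∘ₗ (ι : P →ₐ[k] A).toLinearMap) LinearMap.id d) i) =
          c.coord i (U.mkQ (TensorProduct.rid k A (z.toLinearMap.lTensor A
            (TensorProduct.map (ι : P →ₗ[k] A) (ι : P →ₗ[k] A) d)))) := by
        intro d
        induction d using TensorProduct.induction_on with
        | zero => simp
        | add p q hp hq => simp only [map_add, Finsupp.add_apply, hp, hq]
        | tmul p q => simp [map_smul, mul_comm]
      refine (e _).trans ?_
      rw [CoalgHomClass.map_comp_comul_apply ι]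
      have := hUz z (ι y) hx
      rw [Submodule.mkQ_apply, (Submodule.Quotient.mk_eq_zero U).2 this, map_zero]
    have e : ∀ d : P ⊗[k] P, U.mkQ.rTensor A (TensorProduct.map (ι : P →ₗ[k] A) (ι : P →ₗ[k] A) d) =
        (ι : P →ₗ[k] A).lTensor (A ⧸ U)
          (TensorProduct.map (U.mkQ ∘ₗ (ι : P →ₐ[k] A).toLinearMap) LinearMap.id d) := by
      intro d
      induction d using TensorProduct.induction_on with
      | zero => simp
      | add p q hp hq => simp only [map_add, hp, hq]
      | tmul p q => simp
    rw [e, show TensorProduct.map (U.mkQ ∘ₗ (ι : P →ₐ[k] A).toLinearMap) LinearMap.id (comul (R := k) y) = w from rfl,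
      hw, map_zero]
  haveI : Module.Finite k U :=
    Module.Finite.of_injective (Submodule.inclusion (hUV.trans inf_le_left)) (Submodule.inclusion_injective _)
  obtain ⟨bset, hbE, hbspan, hbli⟩ := exists_linearIndependent k E
  have hbspan' : Submodule.span k bset = U := hbspan
  let e0 : Module.Basis bset k U :=
    (Module.Basis.span hbli).map (LinearEquiv.ofEq _ _ (by rw [Subtype.range_coe]; exact hbspan'))
  haveI : Finite bset := Module.Finite.finite_basis e0
  letI := Fintype.ofFinite bset
  have he0 : ∀ j, (e0 j : A) = (j : A) := fun j => by simp [e0]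
  choose θ hθ using fun j : bset => (hbE j.2).2
  letI := Comodule.subComod (k := k) (A := A) U hU
  let X := Chevalley.matrixOf (A := A) e0
  have hX := Chevalley.isMul_matrixOf (A := A) e0
  have hΔ : ∀ j : bset, comul (R := k) (j : A) = ∑ i : bset, (i : A) ⊗ₜ[k] X i j := fun j => by
    have h := congrArg (U.subtype.rTensor A) (Chevalley.coact_basis (A := A) e0 j)
    simp only [map_sum, LinearMap.rTensor_tmul, Submodule.subtype_apply, he0] at h
    rw [← he0 j]
    exact (Comodule.rTensor_coactRestrict U hU (e0 j)).symm.trans h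
  have hcoord : ∀ i : bset, ∃ φ : A →ₗ[k] k, ∀ j : bset, φ (j : A) = if j = i then 1 else 0 := by
    intro i
    obtain ⟨φ, hφ⟩ := LinearMap.exists_extend (e0.coord i)
    refine ⟨φ, fun j => ?_⟩
    have := LinearMap.congr_fun hφ (e0 j)
    simp only [LinearMap.comp_apply, Submodule.subtype_apply, he0, Module.Basis.coord_apply,
      Module.Basis.repr_self, Finsupp.single_apply] at this
    exact this
  choose φ hφ using hcoord
  have hπX : ∀ i j, π (X i j) = if i = j then θ j else 0 := by
    intro i j
    have h := congrArg (fun w => TensorProduct.lid k C ((φ i).rTensor C w)) (hθ j)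
    simp only [hΔ, map_sum, TensorProduct.map_tmul, LinearMap.id_apply, LinearMap.rTensor_tmul,
      TensorProduct.lid_tmul, hφ, ite_smul, one_smul, zero_smul, Finset.sum_ite_eq', Finset.mem_univ,
      if_true] at h
    refine h.trans ?_
    by_cases hij : i = j
    · subst hij; simp
    · rw [if_neg (Ne.symm hij), if_neg hij]
  let d := X.det
  have hd : IsGroupLikeElem k d := isGroupLikeElem_det hX
  have hπd : π d = ∏ j, θ j := by
    show (π : A →ₐ[k] C) X.det = _
    rw [AlgHom.map_det, show (π : A →ₐ[k] C).mapMatrix X = Matrix.diagonal θ from by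
      ext i j
      show π (X i j) = _
      rw [hπX, Matrix.diagonal_apply]
      by_cases hij : i = j
      · subst hij; simp
      · simp [hij], Matrix.det_diagonal]
  have haU : a ∈ U := Submodule.subset_span ⟨⟨haN, by
    obtain ⟨y, hy⟩ := hmem; exact ⟨y, hy⟩⟩, χ, ha⟩
  obtain ⟨i, hi⟩ : ∃ i, θ i = χ := by
    by_contra hne
    push_neg at hne
    have h0 : (⟨a, haU⟩ : U) = 0 := by
      refine e0.repr.map_eq_zero_iff.1 (Finsupp.ext fun i => ?_)
      rw [Finsupp.zero_apply]
      by_contra hc
      refine hne i ?_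
      have hsum : a = ∑ j, e0.repr ⟨a, haU⟩ j • (j : A) := by
        have := congrArg Subtype.val (e0.sum_repr ⟨a, haU⟩)
        simp only [AddSubmonoidClass.coe_finset_sum, Submodule.coe_smul, he0] at this
        exact this.symm
      have h := congrArg (fun w => TensorProduct.lid k C ((φ i).rTensor C w)) ha
      have hl : TensorProduct.lid k C ((φ i).rTensor C
          (TensorProduct.map (LinearMap.id : A →ₗ[k] A) (π : A →ₗ[k] C) (comul (R := k) a))) =
          e0.repr ⟨a, haU⟩ i • θ i := by
        conv_lhs => rw [hsum]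
        have hθ' : ∀ j : bset, TensorProduct.map (LinearMap.id : A →ₗ[k] A) (π : A →ₗ[k] C)
            (comul (R := k) (j : A)) = (j : A) ⊗ₜ[k] θ j := hθ
        simp only [map_sum, map_smul, hθ', LinearMap.rTensor_tmul, TensorProduct.lid_tmul, hφ, ite_smul,
          one_smul, zero_smul, smul_ite, smul_zero, Finset.sum_ite_eq', Finset.mem_univ, if_true]
      have hr : φ i a = e0.repr ⟨a, haU⟩ i := by
        conv_lhs => rw [hsum]
        simp [hφ]
      simp only [hl, LinearMap.rTensor_tmul, TensorProduct.lid_tmul, hr] at h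
      exact smul_right_injective C hc h
    have h1 : a = 0 := congrArg Subtype.val h0
    have h2 := hχ.counit_eq_one
    rw [← hπa, h1, map_zero, map_zero] at h2
    exact zero_ne_one h2
  have hnorm : ∀ j : bset, ∃ b, IsEig π b (θ j) ∧ π b = θ j := fun j => by
    obtain ⟨b, hb, hb', -⟩ := exists_normalized (π := π) (V := A) (v := (j : A))
      (fun h => hbli.ne_zero j h) (hθ j)
    exact ⟨b, hb, hb'⟩
  choose nb hnb hnb' using hnorm
  let b := antipode k d * ∏ j ∈ Finset.univ.erase i, nb j
  have hSd : IsEig π (antipode k d) (π (antipode k d)) := by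
    show TensorProduct.map _ _ (comul (R := k) (antipode k d)) = _
    rw [hd.antipode.comul_eq_tmul_self]
    rfl
  refine ⟨b, ?_, ?_⟩
  · show IsEig π (antipode k d * _) (π (antipode k d * _))
    rw [map_mul, map_prod]
    simp only [hnb']
    exact hSd.mul (IsEig.prod _ fun j _ => hnb j)
  · show π (antipode k d * _) * χ = 1
    rw [map_mul, map_prod]
    simp only [hnb']
    rw [mul_assoc, ← hi, Finset.prod_erase_mul _ _ (Finset.mem_univ i), ← hπd, ← map_mul,
      hd.antipode_mul_cancel, map_one]

/-- For a normal subgroup, a negative power of every occurring character occurs. -/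
theorem IsNormal.exists_neg_pow_eig [IsAlgClosed k] [Algebra.FiniteType k A] (hN : IsNormal π)
    (hπ : Function.Surjective π) {a : A} {χ : C} (ha : IsEig π a χ) (hπa : π a = χ)
    (hχ : IsGroupLikeElem k χ) :
    ∃ m : ℕ, 0 < m ∧ ∃ b : A, IsEig π b (π b) ∧ π b * χ ^ m = 1 := by
  obtain ⟨p, hp⟩ := CharP.exists k
  rcases CharP.char_is_prime_or_zero k p with hpp | rfl
  · haveI : Fact p.Prime := ⟨hpp⟩
    haveI : IsNoetherianRing A := Algebra.FiniteType.isNoetherianRing k A
    obtain ⟨r, hr⟩ := IsNoetherianRing.isNilpotent_nilradical A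
    obtain ⟨P, _, _, ι, hft, hι, hmem⟩ := HopfFlat.exists_hopf_powAlg (k := k) (p := p) (B := A) (r := r)
    haveI := hft
    haveI : _root_.IsReduced P := ⟨fun x hx => hι <| by
      obtain ⟨y, hy⟩ := HopfFlat.mem_powAlg.1 ((hmem (ι x)).2 ⟨x, rfl⟩)
      rw [map_zero, ← hy]
      have hy' : IsNilpotent y := by
        obtain ⟨n, hn⟩ := hx
        exact ⟨p ^ r * n, by rw [pow_mul, hy, ← map_pow, hn, map_zero]⟩
      have h1 : y ^ r = 0 := by
        have := Ideal.pow_mem_pow (mem_nilradical.2 hy') r
        rwa [hr, Ideal.zero_eq_bot, Ideal.mem_bot] at this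
      exact pow_eq_zero_of_le (Nat.lt_pow_self hpp.one_lt).le h1⟩
    have hlift : ∀ y : P →ₐ[k] k, ∃ z : A →ₐ[k] k, z.comp (ι : P →ₐ[k] A) = y := by
      intro y
      letI : Algebra P A := (ι : P →+* A).toAlgebra
      haveI : Module.FaithfullyFlat P A := HopfFlat.faithfullyFlat_of_injective ι hι
      obtain ⟨Q, hQ⟩ := PrimeSpectrum.comap_surjective_of_faithfullyFlat (A := P) (B := A)
        ⟨RingHom.ker y, RingHom.ker_isPrime _⟩
      obtain ⟨M, hM, hQM⟩ := Ideal.exists_le_maximal Q.asIdeal Q.2.ne_top
      haveI := hM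
      obtain ⟨z, hz⟩ := HopfFlat.exists_point_ker (k := k) M
      refine ⟨z, AlgHom.ext fun w => ?_⟩
      have h1 : w - algebraMap k P (y w) ∈ RingHom.ker y := by simp
      have h2 : ι (w - algebraMap k P (y w)) ∈ M := hQM ((congrArg PrimeSpectrum.asIdeal hQ).ge h1)
      rw [← hz, RingHom.mem_ker, map_sub, map_sub, AlgHomClass.commutes ι, AlgHom.commutes, sub_eq_zero] at h2
      exact h2
    obtain ⟨b, hb, hbχ⟩ := exists_inverse (π := π) ι hι hlift hN hπ (ha.pow (p ^ r)) (by rw [map_pow, hπa])
      hχ.pow ((hmem _).1 (HopfFlat.pow_mem_powAlg a))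
    exact ⟨p ^ r, pow_pos hpp.pos r, b, hb, hbχ⟩
  · haveI := CharP.charP_to_charZero k
    haveI := HopfRedH28.isReduced_of_charZero k A
    obtain ⟨b, hb, hbχ⟩ := exists_inverse (π := π) (BialgHom.id k A) (fun _ _ h => h)
      (fun y => ⟨y, AlgHom.ext fun _ => rfl⟩) hN hπ ha hπa hχ ⟨a, rfl⟩
    exact ⟨1, one_pos, b, hb, by rwa [pow_one]⟩

end Groth.Agent.NormQuot
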